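import Groth.Agent.RegLoc6.Seq
import Groth.Agent.RegLoc6.Open
import Mathlib.RingTheory.RegularLocalRing.Polynomial
import Mathlib.RingTheory.Derivation.MapCoeffs
import Mathlib.LinearAlgebra.Matrix.NonsingularInverse
import Mathlib.RingTheory.Derivation.Basic

/-! Regularity of quotients from derivations. -/

set_option autoImplicit false
universe u

namespace RegDeriv

open IsLocalRing RingTheory.Sequence Groth.Agent.RegLoc6

theorem regular_of_indep : ∀ (m : ℕ) (A : Type u) [CommRing A] [IsRegularLocalRing A]
    (f : Fin m → A), (∀ i, f i ∈ maximalIdeal A) →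
    (∀ c : Fin m → A, ∑ i, c i * f i ∈ maximalIdeal A ^ 2 → ∀ i, c i ∈ maximalIdeal A) →
    IsRegularLocalRing (A ⧸ Ideal.span (Set.range f)) ∧ IsWeaklyRegular A (List.ofFn f) := by
  intro m
  induction m with
  | zero =>
    intro A _ _ f _ _
    refine ⟨?_, by simpa using IsWeaklyRegular.nil A A⟩
    have : Ideal.span (Set.range f) = ⊥ := by simp [Set.range_eq_empty]
    exact IsRegularLocalRing.of_ringEquiv
      ((RingEquiv.quotientBot A).symm.trans (Ideal.quotEquivOfEq this.symm))
  | succ m ih =>
    intro A _ _ f hf hind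
    have hx : f 0 ∉ maximalIdeal A ^ 2 := fun h => by
      classical
      have := hind (Pi.single 0 1) (by simpa [Pi.single_apply, Finset.sum_ite_eq'] using h) 0
      rw [Pi.single_eq_same] at this
      exact (maximalIdeal.isMaximal A).ne_top ((Ideal.eq_top_iff_one _).2 this)
    haveI := isLocalRing_quot (hf 0)
    haveI := (isRegularLocalRing_quot_and (hf 0) hx).1
    let π := Ideal.Quotient.mk (Ideal.span {f 0})
    have hmax : maximalIdeal (A ⧸ Ideal.span {f 0}) = (maximalIdeal A).map π :=
      (map_maximalIdeal_quot _).symm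
    obtain ⟨hreg, hweak⟩ := ih (A ⧸ Ideal.span {f 0}) (fun i : Fin m => π (f i.succ))
      (fun i => by rw [hmax]; exact Ideal.mem_map_of_mem π (hf _))
      (fun c hc i => by
        choose c' hc' using fun i : Fin m => Ideal.Quotient.mk_surjective (c i)
        have hsum : π (∑ i : Fin m, c' i * f i.succ) ∈ (maximalIdeal A ^ 2).map π := by
          rw [Ideal.map_pow, ← hmax, map_sum]
          simpa [π, hc'] using hc
        obtain ⟨b, hb, hb'⟩ := (Ideal.mem_map_iff_of_surjective π Ideal.Quotient.mk_surjective).1 hsum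
        obtain ⟨a, ha⟩ := Ideal.mem_span_singleton'.1 (Ideal.Quotient.eq.1 hb')
        have := hind (Fin.cons a c') (by
          rw [Fin.sum_univ_succ]
          simp only [Fin.cons_zero, Fin.cons_succ]
          rwa [ha, sub_add_cancel]) i.succ
        rw [Fin.cons_succ] at this
        rw [← hc' i, hmax]
        exact Ideal.mem_map_of_mem π this)
    have hrange : Ideal.span (Set.range f) =
        Ideal.span {f 0} ⊔ Ideal.span (Set.range fun i : Fin m => f i.succ) := by
      rw [← Ideal.span_union]
      refine congrArg Ideal.span (Set.ext fun y => ?_)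
      simp [Fin.exists_fin_succ, eq_comm]
    refine ⟨?_, ?_⟩
    · have hm : (Ideal.span (Set.range fun i : Fin m => f i.succ)).map π =
          Ideal.span (Set.range fun i : Fin m => π (f i.succ)) := by
        rw [Ideal.map_span, ← Set.range_comp]; rfl
      haveI := hreg
      exact IsRegularLocalRing.of_ringEquiv ((Ideal.quotEquivOfEq hm.symm).trans
        ((DoubleQuot.quotQuotEquivQuotSup _ _).trans (Ideal.quotEquivOfEq hrange.symm)))
    · rw [List.ofFn_succ, isWeaklyRegular_cons_quot_iff, List.map_ofFn]
      exact ⟨isSMulRegular_of_notMem_sq hx, hweak⟩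

/-- A square system with unit Jacobian for some derivations is part of a regular system of
parameters. -/
theorem indep_of_derivations {A : Type u} [CommRing A] [IsLocalRing A] (m : ℕ) (f : Fin m → A)
    (hf : ∀ i, f i ∈ maximalIdeal A) (D : Fin m → Derivation ℤ A A)
    (hdet : IsUnit (Matrix.det (Matrix.of fun i j : Fin m => D i (f j))))
    (c : Fin m → A) (hc : ∑ i, c i * f i ∈ maximalIdeal A ^ 2) (i : Fin m) :
    c i ∈ maximalIdeal A := by
  classical
  have hD : ∀ (E : Derivation ℤ A A) (z : A), z ∈ maximalIdeal A ^ 2 → E z ∈ maximalIdeal A := by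
    intro E z hz
    rw [pow_two] at hz
    induction hz using Submodule.mul_induction_on' with
    | mem_mul_mem a ha b hb =>
      rw [Derivation.leibniz, smul_eq_mul, smul_eq_mul]
      exact add_mem (Ideal.mul_mem_right _ _ ha) (Ideal.mul_mem_right _ _ hb)
    | add a _ b _ ha hb => rw [map_add]; exact add_mem ha hb
  have hM : ∀ r, ∑ j, D r (f j) * c j ∈ maximalIdeal A := fun r => by
    have h := hD (D r) _ hc
    rw [map_sum] at h
    have h2 : ∑ j, f j * D r (c j) ∈ maximalIdeal A :=
      Ideal.sum_mem _ fun j _ => Ideal.mul_mem_right _ _ (hf j)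
    convert sub_mem h h2 using 1
    rw [← Finset.sum_sub_distrib]
    refine Finset.sum_congr rfl fun j _ => ?_
    rw [Derivation.leibniz, smul_eq_mul, smul_eq_mul]; ring
  let M := Matrix.of fun i j : Fin m => D i (f j)
  have hv : ∀ r, (M.mulVec c) r ∈ maximalIdeal A := fun r => hM r
  have hc' : M⁻¹.mulVec (M.mulVec c) = c := by
    rw [Matrix.mulVec_mulVec, Matrix.nonsing_inv_mul M hdet, Matrix.one_mulVec]
  have key : ∀ v : Fin m → A, (∀ r, v r ∈ maximalIdeal A) → M⁻¹.mulVec v i ∈ maximalIdeal A :=
    fun v hv => by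
      simp only [Matrix.mulVec, dotProduct]
      exact Ideal.sum_mem _ fun j _ => Ideal.mul_mem_left _ _ (hv j)
  have := key _ hv
  rwa [hc'] at this

/-- If a derivation of a regular ring takes `g` outside every prime containing it, `R/g` is regular. -/
theorem isRegularRing_quot_of_derivation {A : Type u} [CommRing A] [IsRegularRing A] (g : A)
    (D : Derivation ℤ A A) (hD : ∀ q : Ideal A, q.IsPrime → g ∈ q → D g ∉ q) :
    IsRegularRing (A ⧸ Ideal.span {g}) := by
  rw [isRegularRing_iff]
  intro q' _
  let q := q'.comap (Ideal.Quotient.mk (Ideal.span {g}))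
  haveI : q.IsPrime := inferInstanceAs (q'.comap _).IsPrime
  obtain ⟨e⟩ := exists_quotLocalEquiv (Ideal.span {g}) q q' rfl
  have hgq : g ∈ q := by
    show Ideal.Quotient.mk _ g ∈ q'
    rw [Ideal.Quotient.eq_zero_iff_mem.2 (Ideal.mem_span_singleton_self g)]; exact zero_mem _
  let L := Localization.AtPrime q
  have hmax : maximalIdeal L = q.map (algebraMap A L) :=
    (Localization.AtPrime.map_eq_maximalIdeal).symm
  have hgm : algebraMap A L g ∈ maximalIdeal L := hmax ▸ Ideal.mem_map_of_mem _ hgq
  have hg2 : algebraMap A L g ∉ maximalIdeal L ^ 2 := fun h => by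
    rw [hmax, ← Ideal.map_pow, IsLocalization.algebraMap_mem_map_algebraMap_iff q.primeCompl] at h
    obtain ⟨s, hs, hsg⟩ := h
    rw [pow_two] at hsg
    have key : ∀ z ∈ q * q, D z ∈ q := fun z hz => by
      induction hz using Submodule.mul_induction_on' with
      | mem_mul_mem a ha b hb =>
        rw [Derivation.leibniz, smul_eq_mul, smul_eq_mul]
        exact add_mem (Ideal.mul_mem_right _ _ ha) (Ideal.mul_mem_right _ _ hb)
      | add a _ b _ ha hb => rw [map_add]; exact add_mem ha hb
    have := key _ hsg
    rw [Derivation.leibniz, smul_eq_mul, smul_eq_mul] at this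
    have h' : s * D g ∈ q := by simpa using sub_mem this (Ideal.mul_mem_right (D s) _ hgq)
    exact ((‹q.IsPrime›.mem_or_mem h').resolve_left hs) |> hD q inferInstance hgq
  haveI : IsRegularLocalRing (L ⧸ Ideal.span {algebraMap A L g}) :=
    (isRegularLocalRing_quot_and hgm hg2).1
  exact IsRegularLocalRing.of_ringEquiv
    ((Ideal.quotEquivOfEq (by rw [Ideal.map_span, Set.image_singleton])).trans e)

end RegDeriv
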